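/-
t-structures on Verdier quotients (BBD).
-/
import Mathlib

universe v u v' u'

open CategoryTheory CategoryTheory.Limits Pretriangulated Triangulated

namespace Groth.Agent.TQuot

variable {C : Type u} [Category.{v} C] [Preadditive C] [HasZeroObject C] [HasShift C ℤ]
  [∀ n : ℤ, (shiftFunctor C n).Additive] [Pretriangulated C] [IsTriangulated C]
  (t : TStructure C) (hb : ∀ X : C, t.bounded X)
  (D : ObjectProperty C) [D.IsTriangulated] [D.IsClosedUnderIsomorphisms]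
  (h1 : ∀ X : C, D X → ∀ n : ℤ, D ((t.truncGELE n n).obj X))
  (h2 : ∀ (X Y Z : C) (f : X ⟶ Y) (g : Y ⟶ Z) (h : Z ⟶ X⟦(1 : ℤ)⟧),
    Triangle.mk f g h ∈ distTriang C → t.heart X → t.heart Y → t.heart Z → D Y → D X ∧ D Z)

include hb h1 in
theorem prop_truncGE {X : C} (hX : D X) (n : ℤ) : D ((t.truncGE n).obj X) := by
  obtain ⟨-, b, hb'⟩ := hb X
  have key : ∀ (k : ℕ) (n : ℤ), b + 1 - k ≤ n → D ((t.truncGE n).obj X) := by
    intro k
    induction k with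
    | zero =>
      intro n hn
      have : t.IsLE X (n - 1) := t.isLE_of_le X b (n - 1) (by omega)
      exact D.prop_of_isZero (t.isZero_truncGE_obj_of_isLE (n - 1) n (by omega) X)
    | succ k ih =>
      intro n hn
      have hT := t.triangleLEGE_distinguished n (n + 1) rfl ((t.truncGE n).obj X)
      have h₁ : D ((t.truncLE n).obj ((t.truncGE n).obj X)) :=
        D.prop_of_iso ((t.truncGELEIsoLEGE n n).app X) (h1 X hX n)
      have : IsIso ((t.truncGE (n + 1)).map ((t.truncGEπ n).app X)) :=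
        t.isIso_truncGE_map_truncGEπ_app _ _ (by omega) X
      have h₃ : D ((t.truncGE (n + 1)).obj ((t.truncGE n).obj X)) :=
        D.prop_of_iso (asIso ((t.truncGE (n + 1)).map ((t.truncGEπ n).app X))) (ih (n + 1) (by omega))
      exact D.ext_of_isTriangulatedClosed₂ _ hT h₁ h₃
  exact key (b + 1 - n).toNat n (by omega)

include hb h1 h2 in
/-- the key point: the positive truncation of the source of a morphism with cone in `D` -/
theorem prop_truncGE_one {d X' X : C} (u : d ⟶ X') (s : X' ⟶ X) (δ : X ⟶ d⟦(1 : ℤ)⟧)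
    (hT : Triangle.mk u s δ ∈ distTriang C) (hd : D d) (hX : t.IsLE X 0) : D ((t.truncGE 1).obj X') := by
  -- iso in degrees ≥ 2
  have hiso : IsIso ((t.truncGE 2).map u) :=
    t.isIso₂_truncGE_map_of_isLE _ (inv_rot_of_distTriang _ hT) 1 2 (by omega)
      (t.isLE_shift X 0 (-1) 1 (by omega))
  have h₃ : D ((t.truncGE 2).obj X') :=
    D.prop_of_iso (asIso ((t.truncGE 2).map u)) (prop_truncGE t hb D h1 hd 2)
  -- degree one
  let a := (t.truncGE 1).obj ((t.truncLE 1).obj d)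
  let b := (t.truncGE 1).obj ((t.truncLE 1).obj X')
  let v : a ⟶ b := (t.truncGE 1).map ((t.truncLE 1).map u)
  obtain ⟨c, g, h, hv⟩ := distinguished_cocone_triangle v
  have hinj : ∀ (W : C) (_ : t.IsGE W 1) (β : b ⟶ W), v ≫ β = 0 → β = 0 := by
    intro W hW β hβ
    refine t.from_truncGE_obj_ext ?_
    rw [comp_zero]
    let γ := (t.truncGEπ 1).app ((t.truncLE 1).obj X') ≫ β
    show γ = 0
    have huγ : (t.truncLE 1).map u ≫ γ = 0 := by
      simp only [γ, ← t.truncGEπ_naturality_assoc]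
      change _ ≫ v ≫ β = 0
      rw [hβ, comp_zero]
    obtain ⟨γ', hγ'⟩ : ∃ γ' : X' ⟶ W, γ = (t.truncLEι 1).app X' ≫ γ' := by
      have hT' := inv_rot_of_distTriang _ (t.triangleLEGE_distinguished 1 2 (by omega) X')
      refine Triangle.yoneda_exact₂ _ hT' γ ?_
      have : IsIso (((t.truncGE 2).map u)⟦(-1 : ℤ)⟧') := inferInstance
      let φ := (invRotate C).map ((t.triangleLEGE 1 2 (by omega)).map u)
      have hφ := φ.comm₁
      change _ ≫ (t.truncLE 1).map u = ((t.truncGE 2).map u)⟦(-1 : ℤ)⟧' ≫ _ at hφ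
      refine (cancel_epi (((t.truncGE 2).map u)⟦(-1 : ℤ)⟧')).1 (Eq.trans ?_ comp_zero.symm)
      refine (Category.assoc _ _ _).symm.trans ?_
      exact (congrArg (· ≫ γ) hφ).symm.trans ((Category.assoc _ _ _).trans (by rw [huγ]; exact comp_zero))
    obtain ⟨ε, hε⟩ : ∃ ε : (t.truncGE 2).obj d ⟶ W, u ≫ γ' = (t.truncGEπ 2).app d ≫ ε := by
      refine Triangle.yoneda_exact₂ _ (t.triangleLEGE_distinguished 1 2 (by omega) d) (u ≫ γ') ?_
      have := (t.truncLEι 1).naturality u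
      dsimp at this
      show (t.truncLEι 1).app d ≫ u ≫ γ' = 0
      rw [← reassoc_of% this, ← hγ', huγ]
    let e2 : X' ⟶ W := (t.truncGEπ 2).app X' ≫ inv ((t.truncGE 2).map u) ≫ ε
    have h0 : u ≫ (γ' - e2) = 0 := by
      rw [Preadditive.comp_sub, hε]
      simp only [e2, ← t.truncGEπ_naturality_assoc, IsIso.hom_inv_id_assoc, sub_self]
    obtain ⟨w, hw⟩ : ∃ w : X ⟶ W, γ' - e2 = s ≫ w := Triangle.yoneda_exact₂ _ hT _ h0
    have h7 : γ' = e2 := sub_eq_zero.1 (by rw [hw, t.zero w 0 1 (by omega), comp_zero])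
    have hTX := t.triangleLEGE_distinguished 1 2 (by omega) X'
    have hι0 := comp_distTriang_mor_zero₁₂ _ hTX
    have hι : (t.truncLEι 1).app X' ≫ (t.truncGEπ 2).app X' = 0 := hι0
    rw [hγ', h7]
    simp only [e2, reassoc_of% hι, zero_comp]
  have ha1 : t.IsLE a 1 := inferInstanceAs (t.IsLE ((t.truncGE 1).obj ((t.truncLE 1).obj d)) 1)
  have hb1 : t.IsLE b 1 := inferInstanceAs (t.IsLE ((t.truncGE 1).obj ((t.truncLE 1).obj X')) 1)
  have haG : t.IsGE a 1 := inferInstanceAs (t.IsGE ((t.truncGE 1).obj _) 1)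
  have hbG : t.IsGE b 1 := inferInstanceAs (t.IsGE ((t.truncGE 1).obj _) 1)
  have hc : t.IsLE c 0 := by
    rw [t.isLE_iff_orthogonal 0 1 rfl]
    intro W w hW
    obtain ⟨w', hw'⟩ : ∃ w' : a⟦(1 : ℤ)⟧ ⟶ W, w = h ≫ w' := Triangle.yoneda_exact₃ _ hv w
      (hinj W hW _ (by
        show v ≫ g ≫ w = 0
        rw [← Category.assoc, show v ≫ g = 0 from comp_distTriang_mor_zero₁₂ _ hv, zero_comp]))
    have : t.IsLE (a⟦(1 : ℤ)⟧) 0 := t.isLE_shift a 1 1 0 (by omega)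
    rw [hw', show w' = 0 from t.zero w' 0 1 (by omega), comp_zero]
  have hk := inv_rot_of_distTriang _ hv
  have hbl : t.IsGE (b⟦(-1 : ℤ)⟧) 2 := t.isGE_shift b 1 (-1) 2 (by omega)
  have hkL : t.IsLE (c⟦(-1 : ℤ)⟧) 1 := t.isLE_shift c 0 (-1) 1 (by omega)
  have hkG : t.IsGE (c⟦(-1 : ℤ)⟧) 1 := by
    have hk2 := inv_rot_of_distTriang _ hk
    exact t.isGE₂ _ hk2 1 (t.isGE_of_ge (b⟦(-1 : ℤ)⟧) 1 2 (by omega)) haG
  have hsh := Triangle.shift_distinguished _ hk 1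
  have hheart : ∀ Y : C, t.IsLE Y 1 → t.IsGE Y 1 → t.heart (Y⟦(1 : ℤ)⟧) := fun Y _ _ =>
    (t.mem_heart_iff _).2 ⟨t.isLE_shift Y 1 1 0 (by omega), t.isGE_shift Y 1 1 0 (by omega)⟩
  have hDa : D a := h1 d hd 1
  obtain ⟨-, hDb⟩ := h2 _ _ _ _ _ _ hsh (hheart _ hkL hkG) (hheart _ ha1 haG) (hheart _ hb1 hbG)
    (D.le_shift 1 _ hDa)
  have hDb' : D b := D.prop_of_iso ((shiftEquiv C (1 : ℤ)).unitIso.app b).symm (D.le_shift (-1) _ hDb)
  -- assemble
  have hT1 := t.triangleLEGE_distinguished 1 2 (by omega) ((t.truncGE 1).obj X')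
  have : IsIso ((t.truncGE 2).map ((t.truncGEπ 1).app X')) :=
    t.isIso_truncGE_map_truncGEπ_app _ _ (by omega) X'
  exact D.ext_of_isTriangulatedClosed₂ _ hT1 (D.prop_of_iso ((t.truncGELEIsoLEGE 1 1).app X') hDb')
    (D.prop_of_iso (@asIso _ _ _ _ _ this) h₃)

variable {E : Type u'} [Category.{v'} E] [Preadditive E] [HasZeroObject E] [HasShift E ℤ]
  [∀ n : ℤ, (shiftFunctor E n).Additive] [Pretriangulated E]
  (q : C ⥤ E) [q.CommShift ℤ] [q.IsTriangulated] [q.IsLocalization D.trW]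

include hb h1 h2 in
theorem map_eq_zero {X Y : C} (φ : q.obj X ⟶ q.obj Y) (hX : t.IsLE X 0) (hY : t.IsGE Y 1) : φ = 0 := by
  obtain ⟨r, rfl⟩ := Localization.exists_rightFraction q D.trW φ
  obtain ⟨d₁, g, h, hT, hd₁⟩ := r.hs
  have hinv := inv_rot_of_distTriang _ hT
  have hD : D ((t.truncGE 1).obj r.X') :=
    prop_truncGE_one t hb D h1 h2 _ _ _ hinv (D.le_shift (-1) _ hd₁) hX
  have hι : IsIso (q.map ((t.truncLEι 0).app r.X')) :=
    Localization.inverts q D.trW _ ⟨_, _, _, t.triangleLEGE_distinguished 0 1 rfl r.X', hD⟩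
  have hf : (t.truncLEι 0).app r.X' ≫ r.f = 0 := t.zero _ 0 1 (by omega)
  have hqf : q.map r.f = 0 := by
    rw [← cancel_epi (q.map ((t.truncLEι 0).app r.X')), ← q.map_comp, hf, q.map_zero, comp_zero]
  rw [MorphismProperty.RightFraction.map, hqf, comp_zero]

include hb h1 h2 in
theorem existsUnique_tStructure :
    ∃ t' : TStructure E,
      (∀ (X : C) (n : ℤ), t.IsLE X n → t'.IsLE (q.obj X) n) ∧
      (∀ (X : C) (n : ℤ), t.IsGE X n → t'.IsGE (q.obj X) n) ∧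
      (∀ (Y : E) (n : ℤ), t'.IsLE Y n ↔ ∃ X : C, t.IsLE X n ∧ Nonempty (q.obj X ≅ Y)) ∧
      (∀ (Y : E) (n : ℤ), t'.IsGE Y n ↔ ∃ X : C, t.IsGE X n ∧ Nonempty (q.obj X ≅ Y)) ∧
      ∀ t'' : TStructure E,
        (∀ (X : C) (n : ℤ), t.IsLE X n → t''.IsLE (q.obj X) n) →
        (∀ (X : C) (n : ℤ), t.IsGE X n → t''.IsGE (q.obj X) n) → t'' = t' := by
  have := Localization.essSurj q D.trW
  let t' : TStructure E :=
    { le := fun n Y => ∃ X : C, t.IsLE X n ∧ Nonempty (q.obj X ≅ Y)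
      ge := fun n Y => ∃ X : C, t.IsGE X n ∧ Nonempty (q.obj X ≅ Y)
      le_isClosedUnderIsomorphisms := fun n => ⟨fun e ⟨X, hX, ⟨i⟩⟩ => ⟨X, hX, ⟨i ≪≫ e⟩⟩⟩
      ge_isClosedUnderIsomorphisms := fun n => ⟨fun e ⟨X, hX, ⟨i⟩⟩ => ⟨X, hX, ⟨i ≪≫ e⟩⟩⟩
      le_shift := fun n a n' h Y ⟨X, hX, ⟨i⟩⟩ =>
        ⟨X⟦a⟧, t.isLE_shift X n a n' h, ⟨(q.commShiftIso a).app X ≪≫ (shiftFunctor E a).mapIso i⟩⟩
      ge_shift := fun n a n' h Y ⟨X, hX, ⟨i⟩⟩ =>
        ⟨X⟦a⟧, t.isGE_shift X n a n' h, ⟨(q.commShiftIso a).app X ≪≫ (shiftFunctor E a).mapIso i⟩⟩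
      zero' := fun Y Y' f ⟨X, hX, ⟨i⟩⟩ ⟨X', hX', ⟨i'⟩⟩ => by
        have := map_eq_zero t hb D h1 h2 q (i.hom ≫ f ≫ i'.inv) hX hX'
        rw [← cancel_epi i.hom, ← cancel_mono i'.inv]
        simpa using this
      le_zero_le := fun Y ⟨X, hX, i⟩ => ⟨X, t.isLE_of_le X 0 1, i⟩
      ge_one_le := fun Y ⟨X, hX, i⟩ => ⟨X, t.isGE_of_ge X 0 1, i⟩
      exists_triangle_zero_one := fun Y => by
        let X := q.objPreimage Y
        let i : q.obj X ≅ Y := q.objObjPreimageIso Y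
        have h := q.map_distinguished _ (t.triangleLEGE_distinguished 0 1 rfl X)
        let T := q.mapTriangle.obj ((t.triangleLEGE 0 1 rfl).obj X)
        refine ⟨T.obj₁, T.obj₃, ⟨_, inferInstanceAs (t.IsLE ((t.truncLE 0).obj X) 0), ⟨Iso.refl _⟩⟩,
          ⟨_, inferInstanceAs (t.IsGE ((t.truncGE 1).obj X) 1), ⟨Iso.refl _⟩⟩,
          T.mor₁ ≫ i.hom, i.inv ≫ T.mor₂, T.mor₃, isomorphic_distinguished _ h _ ?_⟩
        exact Triangle.isoMk _ _ (Iso.refl _) i.symm (Iso.refl _)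
          (((Category.assoc _ _ _).trans ((congrArg (T.mor₁ ≫ ·) i.hom_inv_id).trans (Category.comp_id _))).trans
            (Category.id_comp _).symm)
          (Category.comp_id _)
          (((congrArg (T.mor₃ ≫ ·) ((shiftFunctor E (1 : ℤ)).map_id _)).trans (Category.comp_id _)).trans
            (Category.id_comp _).symm) }
  have hle : ∀ (Y : E) (n : ℤ), t'.IsLE Y n ↔ ∃ X : C, t.IsLE X n ∧ Nonempty (q.obj X ≅ Y) := fun Y n =>
    ⟨fun h => h.le, fun h => ⟨h⟩⟩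
  have hge : ∀ (Y : E) (n : ℤ), t'.IsGE Y n ↔ ∃ X : C, t.IsGE X n ∧ Nonempty (q.obj X ≅ Y) := fun Y n =>
    ⟨fun h => h.ge, fun h => ⟨h⟩⟩
  refine ⟨t', fun X n h => (hle _ n).2 ⟨X, h, ⟨Iso.refl _⟩⟩, fun X n h => (hge _ n).2 ⟨X, h, ⟨Iso.refl _⟩⟩,
    hle, hge, fun t'' hL hG => ?_⟩
  have hL' : ∀ (Y : E) (n : ℤ), t'.IsLE Y n → t''.IsLE Y n := fun Y n h => by
    obtain ⟨X, hX, ⟨i⟩⟩ := (hle Y n).1 h
    have := hL X n hX
    exact t''.isLE_of_iso i n
  have hG' : ∀ (Y : E) (n : ℤ), t'.IsGE Y n → t''.IsGE Y n := fun Y n h => by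
    obtain ⟨X, hX, ⟨i⟩⟩ := (hge Y n).1 h
    have := hG X n hX
    exact t''.isGE_of_iso i n
  have e1 : t''.le = t'.le := by
    funext n
    ext Y
    rw [TStructure.le_iff_isLE, TStructure.le_iff_isLE]
    refine ⟨fun h => ?_, hL' Y n⟩
    rw [t'.isLE_iff_orthogonal n (n + 1) rfl]
    intro Z f hZ
    have := hG' Z (n + 1) hZ
    exact t''.zero f n (n + 1) (by omega)
  have e2 : t''.ge = t'.ge := by
    funext n
    ext Y
    rw [TStructure.ge_iff_isGE, TStructure.ge_iff_isGE]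
    refine ⟨fun h => ?_, hG' Y n⟩
    rw [t'.isGE_iff_orthogonal (n - 1) n (by omega)]
    intro Z f hZ
    have := hL' Z (n - 1) hZ
    exact t''.zero f (n - 1) n (by omega)
  cases t''
  simp only [t'] at e1 e2 ⊢
  subst e1 e2
  rfl

end Groth.Agent.TQuot
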